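import Mathlib

set_option autoImplicit false

/-!
# `p`-singular classes when a Sylow `p`-subgroup has order `p` (helper82)

If `P ∈ Syl_p(G)` has order `p` and `N = N_G(P)`, the inclusion `N ≤ G` induces a bijection between
the `p`-singular conjugacy classes of `N` and those of `G`.
-/

namespace Cfsg.Agent.Helper82.McKayP

variable {G : Type*} [Group G] [Finite G] (p : ℕ) [Fact p.Prime]

/-- an element of order `p` normalizing the Sylow `p`-subgroup `P` lies in `P` -/
theorem mem_sylow_of_normalizes (P : Sylow p G) (u : G)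
    (hu : u ∈ Subgroup.normalizer ((P : Subgroup G) : Set G)) (hup : orderOf u = p) :
    u ∈ (P : Subgroup G) := by
  have hp : p.Prime := Fact.out
  have hz : IsPGroup p (Subgroup.zpowers u) := by
    rw [IsPGroup.iff_card]
    exact ⟨1, by rw [Nat.card_zpowers, hup, pow_one]⟩
  have hle : Subgroup.zpowers u ≤ Subgroup.normalizer ((P : Subgroup G) : Set G) := by
    rw [Subgroup.zpowers_le]; exact hu
  have hsup : IsPGroup p (Subgroup.zpowers u ⊔ (P : Subgroup G) : Subgroup G) :=
    IsPGroup.to_sup_of_normal_right' hz P.isPGroup' hle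
  have := P.is_maximal' hsup le_sup_right
  have h1 : Subgroup.zpowers u ≤ (P : Subgroup G) := by
    rw [← this]; exact le_sup_left
  exact h1 (Subgroup.mem_zpowers u)

/-- an element of order `p` of a Sylow `p`-subgroup of order `p` generates it -/
theorem zpowers_eq_sylow (P : Sylow p G) (hP : Nat.card P = p) (u : G) (hu : u ∈ (P : Subgroup G))
    (hup : orderOf u = p) : Subgroup.zpowers u = (P : Subgroup G) := by
  apply Subgroup.eq_of_le_of_card_ge
  · rw [Subgroup.zpowers_le]; exact hu
  · rw [Nat.card_zpowers, hup]; exact hP.le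

/-- the `p`-singular conjugacy classes of a group -/
def SingClass (p : ℕ) (H : Type*) [Group H] : Type _ :=
  {c : ConjClasses H // ∃ g : H, ConjClasses.mk g = c ∧ p ∣ orderOf g}

/-- the `p`-regular conjugacy classes of a group -/
def RegClass (p : ℕ) (H : Type*) [Group H] : Type _ :=
  {c : ConjClasses H // ∃ g : H, ConjClasses.mk g = c ∧ ¬ p ∣ orderOf g}

omit [Finite G] [Fact p.Prime] in
theorem orderOf_conj_eq (g x : G) : orderOf (g * x * g⁻¹) = orderOf x :=
  (SemiconjBy.orderOf_eq g (show SemiconjBy g x (g * x * g⁻¹) by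
    unfold SemiconjBy; group)).symm

theorem orderOf_pow_div (x : G) (h : p ∣ orderOf x) : orderOf (x ^ (orderOf x / p)) = p := by
  have hp : p.Prime := Fact.out
  have hx : 0 < orderOf x := orderOf_pos x
  rw [orderOf_pow' x (by
    intro h0
    have := Nat.div_eq_zero_iff.1 h0
    rcases this with h1 | h1
    · exact hp.ne_zero h1
    · exact absurd (Nat.le_of_dvd hx h) (not_le.2 h1))]
  rw [Nat.gcd_eq_right (Nat.div_dvd_of_dvd h)]
  exact Nat.div_div_self h hx.ne'

/-- conjugation by `g` normalizes `P` as soon as it maps a generator to a generator -/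
theorem mem_normalizer_of_zpowers (P : Subgroup G) (g u : G) (h1 : Subgroup.zpowers u = P)
    (h2 : Subgroup.zpowers (g * u * g⁻¹) = P) : g ∈ Subgroup.normalizer (P : Set G) := by
  rw [Subgroup.mem_normalizer_iff]
  intro h
  constructor
  · intro hh
    rw [← h1] at hh
    obtain ⟨i, rfl⟩ := Subgroup.mem_zpowers_iff.1 hh
    rw [← h2]
    refine Subgroup.mem_zpowers_iff.2 ⟨i, ?_⟩
    rw [conj_zpow]
  · intro hh
    rw [← h2] at hh
    obtain ⟨i, hi⟩ := Subgroup.mem_zpowers_iff.1 hh
    rw [conj_zpow] at hi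
    have : h = u ^ i := by
      have := congrArg (fun t => g⁻¹ * t * g) hi
      simp only [mul_assoc, inv_mul_cancel_left, inv_mul_cancel, mul_one] at this
      exact this.symm
    rw [← h1, this]
    exact Subgroup.zpow_mem_zpowers u i

/-- **Key bijection**: `p`-singular classes of `N_G(P)` and of `G`, for `|P| = p`. -/
theorem card_singClass_normalizer (P : Sylow p G) (hP : Nat.card P = p) :
    Nat.card (SingClass p ↥(Subgroup.normalizer ((P : Subgroup G) : Set G))) =
      Nat.card (SingClass p G) := by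
  classical
  set N : Subgroup G := Subgroup.normalizer ((P : Subgroup G) : Set G) with hN
  let f : SingClass p ↥N → SingClass p G := fun c =>
    ⟨ConjClasses.map N.subtype c.1, by
      obtain ⟨n, hn, hpn⟩ := c.2
      refine ⟨(n : G), ?_, ?_⟩
      · rw [← hn]; rfl
      · rwa [Subgroup.orderOf_coe]⟩
  apply Nat.card_eq_of_bijective f
  constructor
  · -- injective
    rintro ⟨c, n, rfl, hpn⟩ ⟨c', n', rfl, hpn'⟩ hcc
    have hcc' : ConjClasses.mk (n : G) = ConjClasses.mk (n' : G) := congrArg Subtype.val hcc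
    rw [ConjClasses.mk_eq_mk_iff_isConj, isConj_iff] at hcc'
    obtain ⟨g, hg⟩ := hcc'
    apply Subtype.ext
    show ConjClasses.mk n = ConjClasses.mk n'
    rw [ConjClasses.mk_eq_mk_iff_isConj, isConj_iff]
    have hpn1 : p ∣ orderOf (n : G) := by rwa [Subgroup.orderOf_coe]
    set k := orderOf (n : G) / p with hk
    have hu : orderOf ((n : G) ^ k) = p := orderOf_pow_div p (n : G) hpn1
    have hord : orderOf (n' : G) = orderOf (n : G) := by
      rw [← hg]
      exact orderOf_conj_eq g _
    have hu' : orderOf ((n' : G) ^ k) = p := by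
      rw [hk, ← hord]
      exact orderOf_pow_div p (n' : G) (by rw [hord]; exact hpn1)
    have hmem : (n : G) ^ k ∈ (P : Subgroup G) :=
      mem_sylow_of_normalizes p P _ (Subgroup.pow_mem _ n.2 k) hu
    have hmem' : (n' : G) ^ k ∈ (P : Subgroup G) :=
      mem_sylow_of_normalizes p P _ (Subgroup.pow_mem _ n'.2 k) hu'
    have hz := zpowers_eq_sylow p P hP _ hmem hu
    have hz' := zpowers_eq_sylow p P hP _ hmem' hu'
    have hconj : g * (n : G) ^ k * g⁻¹ = (n' : G) ^ k := by
      rw [← hg, conj_pow]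
    have hgN : g ∈ N := mem_normalizer_of_zpowers (P : Subgroup G) g _ hz (by rw [hconj]; exact hz')
    refine ⟨⟨g, hgN⟩, ?_⟩
    apply Subtype.ext
    simpa using hg
  · -- surjective
    rintro ⟨c, x, rfl, hpx⟩
    set k := orderOf x / p with hk
    have hu : orderOf (x ^ k) = p := orderOf_pow_div p x hpx
    have hzp : IsPGroup p (Subgroup.zpowers (x ^ k)) := by
      rw [IsPGroup.iff_card]
      exact ⟨1, by rw [Nat.card_zpowers, hu, pow_one]⟩
    obtain ⟨Q, hQ⟩ := hzp.exists_le_sylow
    obtain ⟨g, hg⟩ := MulAction.exists_smul_eq G Q P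
    have hmemQ : x ^ k ∈ (Q : Subgroup G) := hQ (Subgroup.mem_zpowers _)
    have hmemP : g * x ^ k * g⁻¹ ∈ (P : Subgroup G) := by
      rw [← hg, Sylow.coe_subgroup_smul]
      exact ⟨x ^ k, hmemQ, rfl⟩
    set y := g * x * g⁻¹ with hy
    have hyk : y ^ k = g * x ^ k * g⁻¹ := by rw [hy, conj_pow]
    have huy : orderOf (y ^ k) = p := by
      rw [hyk, ← hu]
      exact orderOf_conj_eq g _
    have hz := zpowers_eq_sylow p P hP (y ^ k) (by rw [hyk]; exact hmemP) huy
    have hyN : y ∈ N := by
      apply mem_normalizer_of_zpowers (P : Subgroup G) y (y ^ k) hz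
      have : y * y ^ k * y⁻¹ = y ^ k := by
        rw [← pow_succ', pow_succ, mul_inv_cancel_right]
      rw [this]; exact hz
    have hordy : orderOf y = orderOf x := orderOf_conj_eq g x
    refine ⟨⟨ConjClasses.mk (⟨y, hyN⟩ : ↥N), ⟨y, hyN⟩, rfl, ?_⟩, ?_⟩
    · rw [← Subgroup.orderOf_coe]
      show p ∣ orderOf y
      rw [hordy]; exact hpx
    · apply Subtype.ext
      show ConjClasses.mk y = ConjClasses.mk x
      rw [ConjClasses.mk_eq_mk_iff_isConj, isConj_iff]
      exact ⟨g⁻¹, by rw [hy]; group⟩

end Cfsg.Agent.Helper82.McKayP
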