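import Mathlib
import Cfsg.Agent.Helper82.McKayP.Singular
import Cfsg.Agent.Helper79.CharComplete

set_option autoImplicit false

/-!
# McKay for `|P| = p`, from the global count (helper82)

`#Irr_{p'}(G) = k(N_G(P))` follows from the count
`l(G) = #{χ : p ∣ χ(1)} + l(N_G(P))` (`l` = number of `p`-regular classes) and the bijection of
`p`-singular classes.
-/

namespace Cfsg.Agent.Helper82.McKayP

open Cfsg

variable {G : Type*} [Group G] [Finite G] (p : ℕ) [Fact p.Prime]

omit [Finite G] [Fact p.Prime] in
theorem singular_iff_not_regular (c : ConjClasses G) :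
    (∃ g : G, ConjClasses.mk g = c ∧ p ∣ orderOf g) ↔
      ¬ ∃ g : G, ConjClasses.mk g = c ∧ ¬ p ∣ orderOf g := by
  constructor
  · rintro ⟨g, rfl, hg⟩ ⟨g', hgg', hg'⟩
    rw [ConjClasses.mk_eq_mk_iff_isConj, isConj_iff] at hgg'
    obtain ⟨x, hx⟩ := hgg'
    apply hg'
    rw [← orderOf_conj_eq x g', hx]
    exact hg
  · intro h
    obtain ⟨g, rfl⟩ := ConjClasses.exists_rep c
    refine ⟨g, rfl, ?_⟩
    by_contra hg
    exact h ⟨g, rfl, hg⟩

omit [Fact p.Prime] in
/-- `k(H) = l(H) + (number of p-singular classes)` -/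
theorem card_conjClasses_eq (H : Type*) [Group H] [Finite H] :
    Nat.card (ConjClasses H) = Nat.card (RegClass p H) + Nat.card (SingClass p H) := by
  classical
  haveI : Fintype (ConjClasses H) := Fintype.ofFinite _
  unfold RegClass SingClass
  rw [Nat.card_eq_fintype_card, Nat.card_eq_fintype_card, Nat.card_eq_fintype_card]
  have h := Fintype.card_subtype_compl (fun c : ConjClasses H =>
    ∃ g : H, ConjClasses.mk g = c ∧ ¬ p ∣ orderOf g)
  have h2 : Fintype.card {c : ConjClasses H // ∃ g : H, ConjClasses.mk g = c ∧ p ∣ orderOf g} =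
      Fintype.card {c : ConjClasses H // ¬ ∃ g : H, ConjClasses.mk g = c ∧ ¬ p ∣ orderOf g} :=
    Fintype.card_congr (Equiv.subtypeEquivRight fun c => singular_iff_not_regular p c)
  rw [h2, h]
  have := Fintype.card_subtype_le (fun c : ConjClasses H =>
    ∃ g : H, ConjClasses.mk g = c ∧ ¬ p ∣ orderOf g)
  omega

/-- **McKay for `|P| = p`** from the global count. -/
theorem mckay_of_count (P : Sylow p G) (hP : Nat.card P = p)
    (hcount : Nat.card (RegClass p G) =
      Nat.card {χ : IrrCharacter G // p ∣ charDegree (χ : G → ℂ)} +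
        Nat.card (RegClass p ↥(Subgroup.normalizer ((P : Subgroup G) : Set G)))) :
    Nat.card {χ : IrrCharacter G // ¬ p ∣ charDegree (χ : G → ℂ)} =
      Nat.card (ConjClasses ↥(Subgroup.normalizer ((P : Subgroup G) : Set G))) := by
  classical
  haveI : Finite (IrrCharacter G) := Cfsg.Agent.Helper79.irr_finite'
  haveI : Fintype (IrrCharacter G) := Fintype.ofFinite _
  have h1 : Nat.card (IrrCharacter G) = Nat.card (ConjClasses G) := by
    haveI : Fintype G := Fintype.ofFinite G
    exact Cfsg.Agent.Helper79.card_irr_eq_card_conjClasses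
  have h2 := card_conjClasses_eq p G
  have h3 := card_conjClasses_eq p ↥(Subgroup.normalizer ((P : Subgroup G) : Set G))
  have h4 := card_singClass_normalizer p P hP
  have h5 : Nat.card (IrrCharacter G) =
      Nat.card {χ : IrrCharacter G // p ∣ charDegree (χ : G → ℂ)} +
        Nat.card {χ : IrrCharacter G // ¬ p ∣ charDegree (χ : G → ℂ)} := by
    rw [Nat.card_eq_fintype_card, Nat.card_eq_fintype_card, Nat.card_eq_fintype_card]
    have h := Fintype.card_subtype_compl (fun χ : IrrCharacter G => p ∣ charDegree (χ : G → ℂ))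
    have := Fintype.card_subtype_le (fun χ : IrrCharacter G => p ∣ charDegree (χ : G → ℂ))
    omega
  omega

end Cfsg.Agent.Helper82.McKayP
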