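import Mathlib
import Cfsg.Agent.Helper82.McKayP.Singular
import Cfsg.Agent.Helper16.SecondMainKappa

set_option autoImplicit false

/-!
# `p`-regular classes of a group with a normal Sylow `p`-subgroup of order `p` (helper82)

If `P ⊴ N` has order `p` and index prime to `p`, the `p`-regular classes of `N` correspond
bijectively to the conjugacy classes of `N ⧸ P`.
-/

namespace Cfsg.Agent.Helper82.McKayP

open Cfsg

variable {N : Type*} [Group N] [Finite N] (p : ℕ) [Fact p.Prime]

/-- an element of `p`-power order lies in the normal subgroup `P` of index prime to `p` -/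
theorem mem_of_orderOf_pow (P : Subgroup N) [P.Normal] (hidx : ¬ p ∣ P.index) (x : N) (k : ℕ)
    (hx : orderOf x = p ^ k) : x ∈ P := by
  have hp : p.Prime := Fact.out
  rw [← QuotientGroup.eq_one_iff]
  have h1 : orderOf (QuotientGroup.mk x : N ⧸ P) ∣ p ^ k := by
    rw [← hx]
    exact orderOf_map_dvd (QuotientGroup.mk' P) x
  have h2 : orderOf (QuotientGroup.mk x : N ⧸ P) ∣ P.index := by
    rw [Subgroup.index_eq_card]
    exact orderOf_dvd_natCard _
  have h3 : Nat.Coprime (p ^ k) P.index :=
    Nat.Coprime.pow_left k ((Nat.Prime.coprime_iff_not_dvd hp).2 hidx)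
  have := Nat.dvd_gcd h1 h2
  rw [h3] at this
  exact orderOf_eq_one_iff.1 (Nat.dvd_one.1 this)

/-- **`l(N) = k(N/P)`** for a normal Sylow `p`-subgroup of order `p`. -/
theorem card_regClass_eq_quotient (P : Subgroup N) [P.Normal] (hP : Nat.card P = p)
    (hidx : ¬ p ∣ P.index) : Nat.card (RegClass p N) = Nat.card (ConjClasses (N ⧸ P)) := by
  classical
  have hp : p.Prime := Fact.out
  let f : RegClass p N → ConjClasses (N ⧸ P) := fun c => ConjClasses.map (QuotientGroup.mk' P) c.1
  apply Nat.card_eq_of_bijective f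
  constructor
  · -- injective
    rintro ⟨c, n, rfl, hn⟩ ⟨c', n', rfl, hn'⟩ hcc
    have hcc' : ConjClasses.mk (QuotientGroup.mk n : N ⧸ P) = ConjClasses.mk (QuotientGroup.mk n') :=
      hcc
    rw [ConjClasses.mk_eq_mk_iff_isConj, isConj_iff] at hcc'
    obtain ⟨q, hq⟩ := hcc'
    obtain ⟨g, rfl⟩ := QuotientGroup.mk_surjective q
    apply Subtype.ext
    show ConjClasses.mk n = ConjClasses.mk n'
    rw [ConjClasses.mk_eq_mk_iff_isConj]
    -- `m = g n g⁻¹` is `p`-regular and `n' = m u` with `u ∈ P`
    set m := g * n * g⁻¹ with hm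
    have hmreg : ¬ p ∣ orderOf m := by rw [hm, orderOf_conj_eq]; exact hn
    have hnm : IsConj n m := isConj_iff.2 ⟨g, rfl⟩
    refine hnm.trans ?_
    have hu : m⁻¹ * n' ∈ P := by
      rw [← QuotientGroup.eq]
      rw [← hq, hm]; simp
    set u := m⁻¹ * n' with hu'
    have hn'u : n' = m * u := by rw [hu']; group
    -- `m` acts on `P`
    by_cases hcent : ∀ x ∈ P, m * x = x * m
    · -- `m` centralizes `P`: then `u = 1`
      have hcomm : Commute m u := hcent u hu
      by_cases hu1 : u = 1
      · rw [hn'u, hu1, mul_one]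
      · exfalso
        have hou : orderOf u = p := by
          have h1 : orderOf u ∣ p := by
            rw [← hP]
            have := orderOf_dvd_natCard (⟨u, hu⟩ : ↥P)
            rwa [Subgroup.orderOf_mk] at this
          rcases (Nat.dvd_prime hp).1 h1 with h | h
          · exact absurd (orderOf_eq_one_iff.1 h) hu1
          · exact h
        have hcop : Nat.Coprime (orderOf m) (orderOf u) := by
          rw [hou]
          exact ((Nat.Prime.coprime_iff_not_dvd hp).2 hmreg).symm
        have := hcomm.orderOf_mul_eq_mul_orderOf_of_coprime hcop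
        apply hn'
        rw [hn'u, this, hou]
        exact dvd_mul_left p _
    · -- `m` does not centralize `P`: conjugation by `P` is transitive on `m P ∩ (p-regular)`
      push_neg at hcent
      obtain ⟨x₀, hx₀P, hx₀⟩ := hcent
      have hx₀1 : x₀ ≠ 1 := by
        rintro rfl; simp at hx₀
      -- `P` is cyclic of prime order, generated by `x₀`
      have hox₀ : orderOf x₀ = p := by
        have h1 : orderOf x₀ ∣ p := by
          rw [← hP]
          have := orderOf_dvd_natCard (⟨x₀, hx₀P⟩ : ↥P)
          rwa [Subgroup.orderOf_mk] at this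
        rcases (Nat.dvd_prime hp).1 h1 with h | h
        · exact absurd (orderOf_eq_one_iff.1 h) hx₀1
        · exact h
      have hgen : Subgroup.zpowers x₀ = P := by
        apply Subgroup.eq_of_le_of_card_ge
        · rw [Subgroup.zpowers_le]; exact hx₀P
        · rw [Nat.card_zpowers, hox₀]; exact hP.le
      -- the map `φ x = m⁻¹ x m x⁻¹` on `P` is injective, hence surjective
      have hPcomm : ∀ a ∈ P, ∀ b ∈ P, a * b = b * a := by
        intro a ha b hb
        rw [← hgen] at ha hb
        obtain ⟨i, rfl⟩ := Subgroup.mem_zpowers_iff.1 ha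
        obtain ⟨j, rfl⟩ := Subgroup.mem_zpowers_iff.1 hb
        exact (Commute.zpow_zpow_self x₀ i j).eq
      let φ : ↥P → ↥P := fun x => ⟨m⁻¹ * x * m * (x : N)⁻¹, by
        have h1 : m⁻¹ * x * m ∈ P := by
          have := ‹P.Normal›.conj_mem (x : N) x.2 m⁻¹
          simpa using this
        exact P.mul_mem h1 (P.inv_mem x.2)⟩
      have hφmul : ∀ x y : ↥P, φ (x * y) = φ x * φ y := by
        intro x y
        apply Subtype.ext
        show m⁻¹ * (x * y : N) * m * ((x : N) * (y : N))⁻¹ =
          (m⁻¹ * x * m * (x : N)⁻¹) * (m⁻¹ * y * m * (y : N)⁻¹)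
        have hy' : m⁻¹ * (y : N) * m ∈ P := by
          have := ‹P.Normal›.conj_mem (y : N) y.2 m⁻¹
          simpa using this
        have hc := hPcomm _ (P.inv_mem x.2) _ (P.mul_mem hy' (P.inv_mem y.2))
        calc m⁻¹ * ((x : N) * y) * m * ((x : N) * (y : N))⁻¹
            = m⁻¹ * x * m * ((m⁻¹ * y * m * (y : N)⁻¹) * (x : N)⁻¹) := by group
          _ = m⁻¹ * x * m * ((x : N)⁻¹ * (m⁻¹ * y * m * (y : N)⁻¹)) := by rw [hc]
          _ = _ := by group
      have hφinj : Function.Injective φ := by
        intro x y hxy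
        -- `φ (x y⁻¹) = 1` means `m` commutes with `x y⁻¹`
        by_contra hne
        have hz1 : x * y⁻¹ ≠ 1 := fun h => hne (mul_inv_eq_one.1 h)
        have hφz : φ (x * y⁻¹) = 1 := by
          have h1 : φ (x * y⁻¹) * φ y = φ x := by rw [← hφmul]; simp
          rw [hxy] at h1
          exact mul_eq_right.1 h1
        set z : ↥P := x * y⁻¹ with hz
        have hzc : m * (z : N) = (z : N) * m := by
          have := congrArg Subtype.val hφz
          simp only [φ, Subgroup.coe_one] at this
          have h2 : m⁻¹ * (z : N) * m = (z : N) := by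
            rw [mul_inv_eq_one] at this
            exact this
          calc m * (z : N) = m * (m⁻¹ * (z : N) * m) := by rw [h2]
            _ = (z : N) * m := by group
        -- `z` generates `P`, so `m` centralizes `x₀`
        have hoz : orderOf (z : N) = p := by
          have h1 : orderOf (z : N) ∣ p := by
            rw [← hP]
            have := orderOf_dvd_natCard z
            rwa [← Subgroup.orderOf_coe] at this
          rcases (Nat.dvd_prime hp).1 h1 with h | h
          · exfalso; apply hz1
            apply Subtype.ext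
            exact orderOf_eq_one_iff.1 h
          · exact h
        have hgenz : Subgroup.zpowers (z : N) = P := by
          apply Subgroup.eq_of_le_of_card_ge
          · rw [Subgroup.zpowers_le]; exact z.2
          · rw [Nat.card_zpowers, hoz]; exact hP.le
        rw [← hgenz] at hx₀P
        obtain ⟨i, hi⟩ := Subgroup.mem_zpowers_iff.1 hx₀P
        apply hx₀
        rw [← hi]
        exact ((show Commute m (z : N) from hzc).zpow_right i).eq
      have hφsurj : Function.Surjective φ := Finite.surjective_of_injective hφinj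
      obtain ⟨x, hx⟩ := hφsurj ⟨u⁻¹, P.inv_mem hu⟩
      have hx' : m⁻¹ * (x : N) * m * (x : N)⁻¹ = u⁻¹ := congrArg Subtype.val hx
      rw [isConj_iff]
      refine ⟨(x : N)⁻¹, ?_⟩
      rw [hn'u, inv_inv]
      have : u = (x : N) * m⁻¹ * (x : N)⁻¹ * m := by
        have := congrArg (fun t => t⁻¹) hx'
        simp only [inv_inv, mul_inv_rev] at this
        rw [← this]; group
      have hw : m * (x : N) * m⁻¹ ∈ P := ‹P.Normal›.conj_mem (x : N) x.2 m
      have hc := hPcomm _ (P.inv_mem x.2) _ hw
      rw [this]
      calc (x : N)⁻¹ * m * (x : N) = (x : N)⁻¹ * (m * (x : N) * m⁻¹) * m := by group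
        _ = (m * (x : N) * m⁻¹) * (x : N)⁻¹ * m := by rw [hc]
        _ = _ := by group
  · -- surjective
    intro c
    obtain ⟨q, rfl⟩ := ConjClasses.exists_rep c
    obtain ⟨g, rfl⟩ := QuotientGroup.mk_surjective q
    obtain ⟨x, y, hxy, -, ⟨k, hk⟩, hy⟩ := Cfsg.Agent.Helper16.exists_isPPart p hp g
    have hxP : x ∈ P := mem_of_orderOf_pow p P hidx x k hk
    refine ⟨⟨ConjClasses.mk y, y, rfl, hy⟩, ?_⟩
    show ConjClasses.mk (QuotientGroup.mk y : N ⧸ P) = ConjClasses.mk (QuotientGroup.mk g)
    congr 1
    rw [← hxy, QuotientGroup.mk_mul, (QuotientGroup.eq_one_iff x).2 hxP, one_mul]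

end Cfsg.Agent.Helper82.McKayP
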